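import Groth.Agent.H02CA.SkyExt.FixPoints

/-!
# The image of a functor agreeing on zero-dimensional sheaves
-/

set_option autoImplicit false
set_option linter.style.haveILetI false
set_option backward.isDefEq.respectTransparency false

universe u v v' w w'

open CategoryTheory CategoryTheory.Limits AlgebraicGeometry CategoryTheory.Pretriangulated

attribute [local instance] HasDerivedCategory.standard

noncomputable section

namespace Groth.Agent.H02CA.SkyExt

section Abstract

variable {C : Type w} [Category.{v} C] [HasShift C ℤ]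
  {D : Type w'} [Category.{v'} D] [Preadditive D] [HasZeroObject D] [HasShift D ℤ]
  [∀ n : ℤ, (shiftFunctor D n).Additive] [Pretriangulated D]

/-- An object with no map to the right orthogonal of the image of a fully faithful left adjoint is in the image. -/
theorem mem_essImage_of_orth (F : C ⥤ D) [F.Full] [F.Faithful] [F.CommShift ℤ] {R : D ⥤ C} (adj : F ⊣ R) (B : D)
    (h : ∀ Z : D, (∀ (A : C) (φ : F.obj A ⟶ Z), φ = 0) → ∀ f : B ⟶ Z, f = 0) : F.essImage B := by
  let ε := adj.counit.app B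
  obtain ⟨Z, g, δ, hT⟩ := distinguished_cocone_triangle ε
  have hε : ∀ A : C, Function.Bijective fun u : F.obj A ⟶ F.obj (R.obj B) => u ≫ ε := fun A => by
    refine (Function.Bijective.of_comp_iff (fun u : F.obj A ⟶ F.obj (R.obj B) => u ≫ ε)
      (Functor.FullyFaithful.ofFullyFaithful F).homEquiv.bijective).1 ?_
    have e : ((fun u : F.obj A ⟶ F.obj (R.obj B) => u ≫ ε) ∘
        ((Functor.FullyFaithful.ofFullyFaithful F).homEquiv : (A ⟶ R.obj B) ≃ _)) = (adj.homEquiv A B).symm :=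
      funext fun u => (adj.homEquiv_counit A B u).symm
    rw [e]
    exact (adj.homEquiv A B).symm.bijective
  have h1 : ∀ A : C, Function.Bijective fun u : F.obj A ⟶ (F.obj (R.obj B))⟦(1 : ℤ)⟧ => u ≫ ε⟦(1 : ℤ)⟧' :=
    fun A => Spanning.bijective_shift (S := fun s : D => F.essImage s)
      (fun s hs n => by
        obtain ⟨a, ⟨e⟩⟩ := hs
        exact ⟨a⟦n⟧, ⟨(F.commShiftIso n).app a ≪≫ (shiftFunctor D n).mapIso e⟩⟩) ε
      (fun s hs => by
        obtain ⟨a, ⟨e⟩⟩ := hs
        refine ⟨fun u v huv => (cancel_epi e.hom).1 ((hε a).1 ?_), fun v => ?_⟩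
        · simp only at huv ⊢
          rw [Category.assoc, Category.assoc, huv]
        · obtain ⟨u, hu⟩ := (hε a).2 (e.hom ≫ v)
          refine ⟨e.inv ≫ u, ?_⟩
          simp only at hu ⊢
          rw [Category.assoc, hu, e.inv_hom_id_assoc]) (F.obj A) ⟨A, ⟨Iso.refl _⟩⟩ 1
  have h31 : δ ≫ ε⟦(1 : ℤ)⟧' = 0 := comp_distTriang_mor_zero₃₁ _ hT
  have h12 : ε ≫ g = 0 := comp_distTriang_mor_zero₁₂ _ hT
  have hZ : ∀ (A : C) (φ : F.obj A ⟶ Z), φ = 0 := fun A φ => by
    have ha : φ ≫ δ = 0 := (h1 A).1 (by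
      simp only
      rw [Category.assoc, h31, comp_zero, zero_comp])
    obtain ⟨ψ, hψ⟩ := Triangle.coyoneda_exact₃ _ hT φ ha
    change F.obj A ⟶ B at ψ
    obtain ⟨χ, hχ⟩ := (hε A).2 ψ
    simp only at hχ
    have hψ' : φ = ψ ≫ g := hψ
    rw [hψ', ← hχ]
    exact (Category.assoc _ _ _).trans ((congrArg (χ ≫ ·) h12).trans comp_zero)
  have hg : g = 0 := h Z hZ g
  have hzZ : IsZero Z := by
    obtain ⟨σ, hσ⟩ := Triangle.yoneda_exact₂ _ (rot_of_distTriang _ hT) (𝟙 Z)
      (show g ≫ 𝟙 Z = 0 by rw [hg, zero_comp])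
    change (F.obj (R.obj B))⟦(1 : ℤ)⟧ ⟶ Z at σ
    have h0 : σ = 0 := (cancel_epi ((F.commShiftIso (1 : ℤ)).hom.app (R.obj B))).1 ((hZ _ _).trans comp_zero.symm)
    refine (IsZero.iff_id_eq_zero Z).2 ?_
    rw [show 𝟙 Z = δ ≫ σ from hσ, h0, comp_zero]
  haveI : IsIso ε := (Triangle.isZero₃_iff_isIso₁ _ hT).1 hzZ
  exact ⟨R.obj B, ⟨asIso ε⟩⟩

end Abstract

open Groth.Agent.H16Derived

variable {k : Type u} [Field k] {X Y : Scheme.{u}} [X.Over (Spec (.of k))] [Y.Over (Spec (.of k))]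
  [IsProper (X ↘ Spec (.of k))] [IsProper (Y ↘ Spec (.of k))]
  [(SGA6.perfP X).IsTriangulated] [(SGA6.perfP Y).IsTriangulated]
  (F : (SGA6.perfP X).FullSubcategory ⥤ (SGA6.perfP Y).FullSubcategory) [F.Additive] [F.Linear k]
  [F.CommShift ℤ] [F.IsTriangulated] [F.Full] [F.Faithful]
  (G : (SGA6.perfP X).FullSubcategory ⥤ (SGA6.perfP Y).FullSubcategory) [G.Additive] [G.Linear k]
  [G.CommShift ℤ] [G.IsTriangulated]

include k in
theorem mem_essImage_of_agree (hreg : Models.IsRegularScheme X)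
    (h : ∀ (M : X.Modules), Coh.IsCoh M → (CohB1.support M).Finite → (CohB1.support M).Nonempty →
        (∀ x ∈ CohB1.support M, IsClosed ({x} : Set X)) →
        ∀ (hM : DCoh.IsPerfect (DCoh.inD X M)),
          Nonempty (F.obj ⟨DCoh.inD X M, hM⟩ ≅ G.obj ⟨DCoh.inD X M, hM⟩))
    (M : (SGA6.perfP X).FullSubcategory) : F.essImage (G.obj M) := by
  haveI : IsLocallyNoetherian X := LocallyOfFiniteType.isLocallyNoetherian (X ↘ Spec (.of k))
  haveI : CompactSpace X := QuasiCompact.compactSpace_of_compactSpace (X ↘ Spec (.of k))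
  haveI : F.IsLeftAdjoint := (S6748.result k X Y hreg F).1
  haveI : G.IsLeftAdjoint := (S6748.result k X Y hreg G).1
  let adjG := Adjunction.ofIsLeftAdjoint G
  let P := (SGA6.perfP X).FullSubcategory
  refine mem_essImage_of_orth F (Adjunction.ofIsLeftAdjoint F) (G.obj M) fun Z hZ f => ?_
  have hz : IsZero ((G.rightAdjoint).obj Z).obj := by
    refine Spanning.isZero_of_hom_from_sky hreg ((G.rightAdjoint).obj Z).property fun x hx i φ => ?_
    let s : P := ⟨DCoh.inD X (Sky.skyM x), Spanning.isPerfect_sky hreg x hx⟩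
    have hv : ∀ g : s⟦-i⟧ ⟶ (G.rightAdjoint).obj Z, g = 0 := fun g => by
      haveI : IsClosedImmersion (X.fromSpecResidueField x) := isClosed_singleton_iff_isClosedImmersion.mp hx
      have hs : CohB1.support (Sky.skyM x) ⊆ {x} := fun w hw => by
        by_contra hne
        exact Sky.support_skyM hx hne hw
      have hm : x ∈ CohB1.support (Sky.skyM x) := fun hsub => by
        haveI : Subsingleton ((Sky.skyM x).presheaf.stalk x) := hsub
        exact (Sky.oneGerm_ne_zero (x := x)) (Subsingleton.elim _ _)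
      obtain ⟨e⟩ := h (Sky.skyM x) (H10Coh.isCoh_push_of_isFinite _ _ (H10Coh.isCoh_structureModule' _))
        ((Set.finite_singleton x).subset hs) ⟨x, hm⟩ (fun w hw => (hs hw).symm ▸ hx) s.property
      let e' : G.obj (s⟦-i⟧) ≅ F.obj (s⟦-i⟧) :=
        (G.commShiftIso (-i)).app s ≪≫ (shiftFunctor _ (-i)).mapIso e.symm ≪≫ ((F.commShiftIso (-i)).app s).symm
      apply (adjG.homEquiv _ _).symm.injective
      exact (hom_eq_zero_of_iso e'.symm (Iso.refl Z) (hZ _) _).trans
        (hom_eq_zero_of_iso e'.symm (Iso.refl Z) (hZ _) _).symm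
    let c := (SGA6.perfP X).ι.commShiftIso i
    have h0 := hom_shift_eq_zero (-i) i (neg_add_cancel i) hv
      (ObjectProperty.homMk (φ ≫ (c.app ((G.rightAdjoint).obj Z)).inv) : s ⟶ ((G.rightAdjoint).obj Z)⟦i⟧)
    have h1 : φ ≫ (c.app ((G.rightAdjoint).obj Z)).inv = 0 := congrArg (fun t => t.hom) h0
    rwa [Preadditive.IsIso.comp_right_eq_zero] at h1
  have hz' : IsZero ((G.rightAdjoint).obj Z) := IsZero.of_full_of_faithful_of_isZero (SGA6.perfP X).ι _ hz
  apply (adjG.homEquiv _ _).injective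
  exact hz'.eq_of_tgt _ _

end Groth.Agent.H02CA.SkyExt
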