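import Groth.Agent.H02CA.Sky.Basic

/-!
# The skyscraper at a closed point is simple
-/

set_option autoImplicit false
set_option linter.style.haveILetI false

universe u

open CategoryTheory CategoryTheory.Limits AlgebraicGeometry Opposite TopologicalSpace

namespace Groth.Agent.H02CA.SkyExt

open Groth.Agent.H16Derived.KFlat Groth.Agent.H16Derived.KFlat.Stalk Groth.Agent.H06Mod Groth.Agent.H02CA.Sky

variable {X : Scheme.{u}} {x : X}

theorem exists_smul_oneGerm (hx : IsClosed ({x} : Set X)) (a : (skyM x).presheaf.stalk x) :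
    ∃ c : X.presheaf.stalk x, c • oneGerm (x := x) = a := by
  haveI : IsClosedImmersion (X.fromSpecResidueField x) := isClosed_singleton_iff_isClosedImmersion.mp hx
  obtain ⟨O, hO, s, rfl⟩ := TopCat.Presheaf.exists_germ_eq (skyM x).presheaf a
  obtain ⟨_, ⟨W, hW : IsAffineOpen W, rfl⟩, hxW, hWO⟩ :=
    X.isBasis_affineOpens.exists_subset_of_mem_open hO O.isOpen
  obtain ⟨f, hf⟩ := (X.fromSpecResidueField x).app_surjective W hW
    (show Γ(Spec (X.residueField x), X.fromSpecResidueField x ⁻¹ᵁ W) from
      (skyM x).presheaf.map (homOfLE hWO).op s)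
  refine ⟨X.presheaf.germ W x hxW f, ?_⟩
  let o : Γ(skyM x, W) := (skyM x).presheaf.map (homOfLE (le_top : W ≤ ⊤)).op
    (show Γ(Spec (X.residueField x), X.fromSpecResidueField x ⁻¹ᵁ ⊤) from 1)
  have ho : oneGerm (x := x) = (skyM x).presheaf.germ W x hxW o :=
    (TopCat.Presheaf.germ_res_apply (skyM x).presheaf _ x hxW _).symm
  have ho1 : (show Γ(Spec (X.residueField x), X.fromSpecResidueField x ⁻¹ᵁ W) from o) = 1 :=
    map_one ((Spec (X.residueField x)).presheaf.map
      (homOfLE (fun _ _ => trivial : X.fromSpecResidueField x ⁻¹ᵁ W ≤ ⊤)).op).hom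
  have : f • o = (skyM x).presheaf.map (homOfLE hWO).op s := by
    refine Eq.trans ?_ hf
    change (X.fromSpecResidueField x).app W f *
      (show Γ(Spec (X.residueField x), X.fromSpecResidueField x ⁻¹ᵁ W) from o) = _
    rw [ho1, mul_one]
  rw [ho, ← germ_smul, this]
  exact TopCat.Presheaf.germ_res_apply (skyM x).presheaf (homOfLE (show W ≤ O from hWO)) x hxW s

/-- A nonzero map out of the skyscraper is a monomorphism. -/
theorem mono_of_ne_zero (hx : IsClosed ({x} : Set X)) {M : X.Modules} (j : skyM x ⟶ M) (hj : j ≠ 0) : Mono j := by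
  refine Preadditive.mono_of_isZero_kernel _ (isZero_of_stalk fun y => ?_)
  have hsub : ∀ z : X, z ≠ x → Subsingleton ((skyM x).presheaf.stalk z) := fun z hz =>
    subsingleton_stalk_of_sections (fun _ h => subsingleton_skyM h) hx hz
  haveI : Mono ((DerSch.stalkFunctor X y).map (kernel.ι j)) := inferInstance
  have hinj : Function.Injective ((DerSch.stalkFunctor X y).map (kernel.ι j)) :=
    (ModuleCat.mono_iff_injective _).1 inferInstance
  refine @ModuleCat.isZero_of_subsingleton _ _ _ (subsingleton_of_forall_eq 0 fun a => ?_)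
  by_contra ha
  by_cases hy : y = x
  swap
  · haveI := hsub y hy
    exact ha (hinj (@Subsingleton.elim ((skyM x).presheaf.stalk y) _ _ _))
  subst hy
  obtain ⟨c, hc⟩ := exists_smul_oneGerm hx ((DerSch.stalkFunctor X y).map (kernel.ι j) a)
  have hc' : IsUnit c := by
    by_contra hnu
    refine ha (hinj ?_)
    rw [map_zero, ← hc]
    exact smul_oneGerm_eq_zero c hnu
  haveI : IsIso (kernel.ι j) := by
    refine isIso_of_stalk _ fun z => ?_
    haveI : Mono ((DerSch.stalkFunctor X z).map (kernel.ι j)) := inferInstance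
    refine (ConcreteCategory.isIso_iff_bijective _).2 ⟨(ModuleCat.mono_iff_injective _).1 inferInstance, fun t => ?_⟩
    by_cases hz : z = y
    · subst hz
      obtain ⟨r, hr⟩ := exists_smul_oneGerm hx t
      refine ⟨(r * hc'.unit⁻¹.val) • a, ?_⟩
      rw [map_smul, ← hc]
      refine (smul_smul _ _ _).trans ?_
      rw [mul_assoc, IsUnit.val_inv_mul, mul_one]
      exact hr
    · haveI := hsub z hz
      exact ⟨0, @Subsingleton.elim ((skyM y).presheaf.stalk z) _ _ _⟩
  exact hj ((cancel_epi (kernel.ι j)).1 ((kernel.condition j).trans comp_zero.symm))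

end Groth.Agent.H02CA.SkyExt
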