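import Groth.Agent.H02CA.SkyExt.Sky
import Groth.Agent.H02CA.SkyExt.Simple
import Groth.Agent.H02CA.Spanning.FullyFaithful
import Groth.Agent.H16Derived.DTrunc
import Groth.Agent.H16Derived.ShiftHom
import Mathlib.AlgebraicGeometry.Morphisms.FiniteType
import Mathlib.Algebra.Homology.DerivedCategory.FullyFaithful

/-!
# A functor fixing zero-dimensional sheaves is fully faithful
-/

set_option autoImplicit false
set_option linter.style.haveILetI false
set_option backward.isDefEq.respectTransparency false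
set_option maxHeartbeats 800000

universe u

open CategoryTheory CategoryTheory.Limits AlgebraicGeometry Opposite

attribute [local instance] HasDerivedCategory.standard

noncomputable section

namespace Groth.Agent.H02CA.SkyExt

open Groth.Agent.H16Derived DerivedCategory.TStructure

variable {k : Type u} [Field k] {X : Scheme.{u}} [X.Over (Spec (.of k))] [IsProper (X ↘ Spec (.of k))]
  [(SGA6.perfP X).IsTriangulated]

theorem notMem_hd_of_ne [IsLocallyNoetherian X] {y x : X} (hy : IsClosed ({y} : Set X)) (hxy : y ≠ x)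
    (hx : IsClosed ({x} : Set X)) (i : ℤ) (φ : DCoh.inD X (Sky.skyM y) ⟶ (DCoh.inD X (Sky.skyM x))⟦i⟧) : φ = 0 := by
  have hz : IsZero ((DCoh.restrictD (Sky.offPt y hy).ι).obj (DCoh.inD X (Sky.skyM y))) :=
    (Sky.isZero_rd_sky y hy 0).of_iso ((DCoh.restrictD (Sky.offPt y hy).ι).mapIso
      ((shiftFunctorZero' (DCoh.D X) (-(0 : ℤ)) (by omega)).app _).symm)
  have key : ∀ φ : DCoh.inD X (Sky.skyM y) ⟶ (shiftFunctor (DCoh.D X) (-(-i))).obj (DCoh.inD X (Sky.skyM x)), φ = 0 :=
    fun φ => Sky.hom_to_sky_eq_zero_of_isZero_rd x hx (U := Sky.offPt y hy) (Ne.symm hxy) hz φ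
  exact hom_eq_zero_of_iso (Iso.refl _) ((shiftFunctorCongr' i) ) key φ
where
  shiftFunctorCongr' (i : ℤ) : (shiftFunctor (DCoh.D X) (-(-i))).obj (DCoh.inD X (Sky.skyM x)) ≅
      (DCoh.inD X (Sky.skyM x))⟦i⟧ := eqToIso (by rw [neg_neg])

theorem isFinite_of_points [IsLocallyNoetherian X] [JacobsonSpace X] {M : X.Modules} (hM : Coh.IsCoh M)
    (x : X) (hx : IsClosed ({x} : Set X))
    (h : ∀ y : X, IsClosed ({y} : Set X) → y ≠ x → y ∉ CohB1.support M) : CohB1.support M ⊆ {x} := by
  have hc := H10Coh.isClosed_support M hM.2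
  rw [← JacobsonSpace.closure_inter_closedPoints hc]
  refine closure_minimal ?_ hx
  rintro y ⟨hy, hyc⟩
  by_contra hne
  exact h y hyc hne hy

theorem map_eq_symm {C D : Type*} [Category C] [Category D] {F : C ⥤ D} {R : D ⥤ C} (adj : F ⊣ R) {A B : C}
    (u : A ⟶ B) : F.map u = (adj.homEquiv A (F.obj B)).symm (u ≫ adj.unit.app B) := by
  apply (adj.homEquiv A (F.obj B)).injective
  rw [Equiv.apply_symm_apply, Adjunction.homEquiv_unit]
  exact (adj.unit.naturality u).symm

theorem bijective_map_of_isIso_unit {C D : Type*} [Category C] [Category D] {F : C ⥤ D} {R : D ⥤ C} (adj : F ⊣ R)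
    (A B : C) [IsIso (adj.unit.app B)] : Function.Bijective fun u : A ⟶ B => F.map u := by
  have e : (fun u : A ⟶ B => F.map u) = (adj.homEquiv A (F.obj B)).symm ∘ fun u => u ≫ adj.unit.app B :=
    funext fun u => map_eq_symm adj u
  rw [e]
  exact (adj.homEquiv A (F.obj B)).symm.bijective.comp
    ⟨fun a b hab => (cancel_mono (adj.unit.app B)).1 hab, fun v => ⟨v ≫ inv (adj.unit.app B),
      (Category.assoc _ _ _).trans ((congrArg (v ≫ ·) (IsIso.inv_hom_id _)).trans (Category.comp_id v))⟩⟩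

variable (F : (SGA6.perfP X).FullSubcategory ⥤ (SGA6.perfP X).FullSubcategory) [F.Additive] [F.Linear k]
  [F.CommShift ℤ] [F.IsTriangulated]

include k in
theorem fullyFaithful_of_fix (hreg : Models.IsRegularScheme X)
    (h : ∀ (M : X.Modules), Coh.IsCoh M → (CohB1.support M).Finite → (CohB1.support M).Nonempty →
        (∀ x ∈ CohB1.support M, IsClosed ({x} : Set X)) →
        ∀ (hM : DCoh.IsPerfect (DCoh.inD X M)),
          Nonempty ((⟨DCoh.inD X M, hM⟩ : (SGA6.perfP X).FullSubcategory) ≅ F.obj ⟨DCoh.inD X M, hM⟩)) :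
    F.Full ∧ F.Faithful := by
  haveI : IsLocallyNoetherian X := LocallyOfFiniteType.isLocallyNoetherian (X ↘ Spec (.of k))
  haveI : CompactSpace X := QuasiCompact.compactSpace_of_compactSpace (X ↘ Spec (.of k))
  haveI : JacobsonSpace X := LocallyOfFiniteType.jacobsonSpace (X ↘ Spec (.of k))
  haveI hFL : F.IsLeftAdjoint := (S6748.result k X X hreg F).1
  let R := F.rightAdjoint
  let adj : F ⊣ R := Adjunction.ofIsLeftAdjoint F
  let P := (SGA6.perfP X).FullSubcategory
  let obj : ∀ M : X.Modules, Coh.IsCoh M → P := fun M hM => ⟨DCoh.inD X M, Spanning.isPerfect_inD_of_isCoh hreg hM⟩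
  have hskycoh : ∀ z : X, IsClosed ({z} : Set X) → Coh.IsCoh (Sky.skyM z) := fun z hz =>
    haveI : IsClosedImmersion (X.fromSpecResidueField z) := isClosed_singleton_iff_isClosedImmersion.mp hz
    H10Coh.isCoh_push_of_isFinite _ _ (H10Coh.isCoh_structureModule' _)
  have hfix : ∀ (M : X.Modules) (hM : Coh.IsCoh M) (z : X), IsClosed ({z} : Set X) → CohB1.support M ⊆ {z} →
      z ∈ CohB1.support M → ∀ i : ℤ, Nonempty (F.obj ((obj M hM)⟦i⟧) ≅ (obj M hM)⟦i⟧) := by
    intro M hM z hz hs hzs i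
    obtain ⟨e⟩ := h M hM ((Set.finite_singleton z).subset hs) ⟨z, hzs⟩ (fun w hw => (hs hw).symm ▸ hz) (obj M hM).property
    exact ⟨(F.commShiftIso i).app _ ≪≫ (shiftFunctor P i).mapIso e.symm⟩
  have hskymem : ∀ z : X, z ∈ CohB1.support (Sky.skyM z) := fun z => by
    intro hsub
    haveI : Subsingleton ((Sky.skyM z).presheaf.stalk z) := hsub
    exact (Sky.oneGerm_ne_zero (x := z)) (Subsingleton.elim _ _)
  have hskysupp : ∀ z : X, IsClosed ({z} : Set X) → CohB1.support (Sky.skyM z) ⊆ {z} := fun z hz w hw => by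
    by_contra hne
    exact Sky.support_skyM hz hne hw
  suffices key : ∀ (x : X) (hx : IsClosed ({x} : Set X)), IsIso (adj.unit.app (obj _ (hskycoh x hx))) by
    refine Spanning.fullyFaithful_of_points k F hreg fun x x' _ hx' hp hp' i => ?_
    haveI : IsIso (adj.unit.app ((obj _ (hskycoh x' hx'))⟦i⟧)) := by
      haveI := key x' hx'
      -- the unit commutes with shifts up to bijectivity on all maps
      refine Spanning.isIso_of_from (S := fun _ : P => True) (fun _ _ _ => trivial)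
        (fun E hE => (IsZero.iff_id_eq_zero E).2 (hE E trivial (𝟙 E))) _ fun s _ => ?_
      have e : (fun u : s ⟶ (obj _ (hskycoh x' hx'))⟦i⟧ => u ≫ adj.unit.app _) =
          (adj.homEquiv s _) ∘ fun u : s ⟶ (obj _ (hskycoh x' hx'))⟦i⟧ => F.map u := funext fun u => by
        simp [Adjunction.homEquiv_unit]
      erw [e]
      refine (adj.homEquiv s _).bijective.comp ?_
      refine Spanning.bijective_map_of_iso F
        ((shiftFunctorCompIsoId P (-i) i (neg_add_cancel i)).app s).symm (Iso.refl _)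
        (Spanning.bijective_map_shift F i ?_)
      exact bijective_map_of_isIso_unit adj _ _
    exact bijective_map_of_isIso_unit adj (A := (⟨DCoh.inD X (Sky.skyM x), hp⟩ : P))
      (B := (shiftFunctor P i).obj (obj _ (hskycoh x' hx')))
  intro x hx
  let s := obj _ (hskycoh x hx)
  let E' := R.obj (F.obj s)
  obtain ⟨eFs⟩ : Nonempty (F.obj s ≅ s) := by
    obtain ⟨e⟩ := hfix _ (hskycoh x hx) x hx (hskysupp x hx) (hskymem x) 0
    exact ⟨F.mapIso ((shiftFunctorZero P ℤ).app _).symm ≪≫ e ≪≫ (shiftFunctorZero P ℤ).app _⟩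
  -- maps into the right adjoint
  let hom' : ∀ A : P, (A ⟶ E') ≃ₗ[k] (F.obj A ⟶ F.obj s) := fun A =>
    { toFun := fun f => (adj.homEquiv A (F.obj s)).symm f
      map_add' := fun f g => by simp [Adjunction.homEquiv_counit]
      map_smul' := fun r f => by simp [Adjunction.homEquiv_counit]
      invFun := fun f => adj.homEquiv A (F.obj s) f
      left_inv := fun f => (adj.homEquiv A (F.obj s)).apply_symm_apply f
      right_inv := fun f => (adj.homEquiv A (F.obj s)).symm_apply_apply f }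
  have homIso : ∀ (A : P), Nonempty (F.obj A ≅ A) → Nonempty ((A ⟶ E') ≃ₗ[k] (A.obj ⟶ s.obj)) := by
    rintro A ⟨eA⟩
    exact ⟨((hom' A).trans (Linear.homCongr k eA eFs)).trans (LinearEquiv.ofBijective ((SGA6.perfP X).ι.mapLinearMap k)
      ⟨fun a b hab => (SGA6.perfP X).ι.map_injective hab, fun g => ⟨ObjectProperty.homMk g, rfl⟩⟩)⟩
  -- vanishing from vanishing at the source
  have hvan : ∀ (M : X.Modules) (hM : Coh.IsCoh M) (z : X), IsClosed ({z} : Set X) → CohB1.support M ⊆ {z} →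
      z ∈ CohB1.support M → ∀ i : ℤ, (∀ ψ : DCoh.inD X M ⟶ s.obj⟦i⟧, ψ = 0) →
      ∀ φ : DCoh.inD X M ⟶ E'.obj⟦i⟧, φ = 0 := by
    intro M hM z hz hs hzs i hψ
    obtain ⟨e⟩ := homIso ((obj M hM)⟦-i⟧) (hfix M hM z hz hs hzs (-i))
    let c : ((obj M hM)⟦-i⟧ : P).obj ≅ (DCoh.inD X M)⟦-i⟧ := ((SGA6.perfP X).ι.commShiftIso (-i)).app _
    refine hom_shift_eq_zero (-i) i (neg_add_cancel i) fun g => ?_
    have h1 : (ObjectProperty.homMk (c.hom ≫ g) : (obj M hM)⟦-i⟧ ⟶ E') = 0 := by
      apply e.injective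
      rw [map_zero]
      exact hom_eq_zero_of_iso c.symm (Iso.refl _) (shift_hom_eq_zero (-i) i (neg_add_cancel i) hψ) _
    have h2 : c.hom ≫ g = 0 := congrArg (fun t => t.hom) h1
    exact (cancel_epi c.hom).1 (h2.trans comp_zero.symm)
  have hE : DCoh.IsPerfect E'.obj := E'.property
  have hcohE := FMKWit.isCohD_of_isPerfect hE
  obtain ⟨a₀, b₀, ha₀, hb₀⟩ := FMKWit.exists_bounds_of_isPerfect hE
  have hother : ∀ (y : X), IsClosed ({y} : Set X) → y ≠ x → ∀ j : ℤ, y ∉ CohB1.support (DCoh.HD E'.obj j) := by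
    intro y hy hne j
    haveI := hreg y
    obtain ⟨d, hd⟩ := H4Depth.exists_nat_ringKrullDim_eq (R := X.presheaf.stalk y)
    simpa using FibreVanish.notMem_support_of_hom_sky_deg y hy d hd E'.obj hE (j + d)
      (hvan _ (hskycoh y hy) y hy (hskysupp y hy) (hskymem y) _ (notMem_hd_of_ne hy hne hx _))
  have hsupp : ∀ j : ℤ, CohB1.support (DCoh.HD E'.obj j) ⊆ {x} := fun j =>
    isFinite_of_points (hcohE j) x hx fun y hy hne => hother y hy hne j
  have hpos : ∀ j : ℤ, 0 < j → IsZero (DCoh.HD E'.obj j) := fun j hj => by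
    refine (Thomason.isZero_hd_iff _ j).2 (Set.eq_empty_iff_forall_notMem.2 fun y hy => ?_)
    obtain rfl : y = x := hsupp j hy
    haveI := hreg y
    obtain ⟨d, hd⟩ := H4Depth.exists_nat_ringKrullDim_eq (R := X.presheaf.stalk y)
    have := FibreVanish.notMem_support_of_hom_sky_deg y hx d hd E'.obj hE (j + d)
      (hvan _ (hskycoh y hx) y hx (hskysupp y hx) (hskymem y) _ (hom_sky_sky_eq_zero y hx d hd _ (by omega)))
    rw [add_sub_cancel_right] at this
    exact this hy
  have hneg : ∀ (n : ℕ), E'.obj.IsGE (-(n : ℤ)) → E'.obj.IsGE 0 := by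
    intro n
    induction n with
    | zero => exact id
    | succ n ih =>
      intro hge
      refine ih ((DerivedCategory.isGE_iff _ _).2 fun j hj => ?_)
      rcases lt_or_eq_of_le (show j ≤ -((n : ℤ) + 1) by omega) with hlt | heq
      · haveI := hge
        exact DerivedCategory.isZero_of_isGE E'.obj (-((n + 1 : ℕ) : ℤ)) j (by push_cast; omega)
      haveI := hge
      let L := (t.truncLT (j + 1)).obj E'.obj
      haveI : DerivedCategory.IsGE E'.obj j := by
        rw [heq]; simpa using hge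
      haveI : DerivedCategory.IsGE L j := DTrunc.isGE_truncLT E'.obj (j + 1) j
      haveI : DerivedCategory.IsLE L j := inferInstanceAs (t.IsLE ((t.truncLT (j + 1)).obj E'.obj) j)
      obtain ⟨Y, ⟨e⟩⟩ := L.exists_iso_singleFunctor_obj_of_isGE_of_isLE j
      haveI := DTrunc.isIso_homology_truncLTι E'.obj (j + 1) j (by omega)
      let eY : Y ≅ DCoh.HD E'.obj j :=
        ((DerivedCategory.singleFunctorCompHomologyFunctorIso X.Modules j).app Y).symm ≪≫
          (DerivedCategory.homologyFunctor X.Modules j).mapIso e.symm ≪≫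
          asIso ((DerivedCategory.homologyFunctor X.Modules j).map ((t.truncLTι (j + 1)).app E'.obj))
      by_contra hnz
      obtain ⟨y, hy⟩ : (CohB1.support (DCoh.HD E'.obj j)).Nonempty :=
        Set.nonempty_iff_ne_empty.2 fun he => hnz ((Thomason.isZero_hd_iff _ j).2 he)
      obtain rfl : y = x := hsupp j hy
      let es : (DerivedCategory.singleFunctor X.Modules j).obj (DCoh.HD E'.obj j) ≅ (DCoh.inD X (DCoh.HD E'.obj j))⟦-j⟧ :=
        (((DerivedCategory.singleFunctors X.Modules).shiftIso (-j) j 0 (by omega)).app _).symm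
      have hv : ∀ g : (DCoh.inD X (DCoh.HD E'.obj j))⟦-j⟧ ⟶ E'.obj, g = 0 := by
        refine shift_hom_eq_zero (-j) j (neg_add_cancel j) (hvan _ (hcohE j) y hx (hsupp j) hy j ?_)
        intro ψ
        haveI : t.IsGE (s.obj⟦j⟧) (-j) := t.isGE_shift _ 0 j (-j) (by omega)
        haveI : t.IsLE (DCoh.inD X (DCoh.HD E'.obj j)) 0 := inferInstanceAs (DerivedCategory.IsLE _ _)
        exact t.zero ψ 0 (-j) (by omega)
      have h0 : (t.truncLTι (j + 1)).app E'.obj = 0 :=
        hom_eq_zero_of_iso (((DerivedCategory.singleFunctor X.Modules j).mapIso eY ≪≫ es).symm ≪≫ e.symm) (Iso.refl _) hv _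
      refine hnz ?_
      have : IsIso ((DerivedCategory.homologyFunctor X.Modules j).map ((t.truncLTι (j + 1)).app E'.obj)) := inferInstance
      rw [h0, Functor.map_zero] at this
      exact ((isIsoZeroEquiv _ _) this).2 |> fun hid => (IsZero.iff_id_eq_zero _).2 hid
  haveI : E'.obj.IsGE 0 := hneg (-a₀).toNat (haveI := ha₀; t.isGE_of_ge E'.obj _ a₀ (by omega))
  haveI : E'.obj.IsLE 0 := (DerivedCategory.isLE_iff _ _).2 fun j hj => hpos j hj
  obtain ⟨M, ⟨eM⟩⟩ := E'.obj.exists_iso_singleFunctor_obj_of_isGE_of_isLE 0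
  let eMH : M ≅ DCoh.HD E'.obj 0 :=
    ((DerivedCategory.singleFunctorCompHomologyFunctorIso X.Modules 0).app M).symm ≪≫
      (DerivedCategory.homologyFunctor X.Modules 0).mapIso eM.symm
  have hMcoh : Coh.IsCoh M := H10Coh.isCoh_of_iso eMH.symm (hcohE 0)
  have hMsupp : CohB1.support M ⊆ {x} := fun y hy => by
    by_contra hne
    exact Sky.support_congr eMH.symm (fun hy' => hne (hsupp 0 hy')) hy
  -- the unit in degree zero
  let η := adj.unit.app s
  obtain ⟨η₀, hη₀⟩ := (DerivedCategory.singleFunctor X.Modules 0).map_surjective (η.hom ≫ eM.hom)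
  have hη : η ≠ 0 := fun h0 => by
    have h1 : 𝟙 (F.obj s) = 0 := by
      have := adj.left_triangle_components s
      rw [show adj.unit.app s = 0 from h0, F.map_zero, zero_comp] at this
      exact this.symm
    have h2 : IsZero (DCoh.inD X (Sky.skyM x)) :=
      Functor.map_isZero (SGA6.perfP X).ι (((IsZero.iff_id_eq_zero _).2 h1).of_iso eFs.symm)
    exact Sky.notMem_support_of_isZero (((DerivedCategory.homologyFunctor X.Modules 0).map_isZero h2).of_iso
      ((DerivedCategory.singleFunctorCompHomologyFunctorIso X.Modules 0).app _).symm) x (hskymem x)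
  have hη₀ne : η₀ ≠ 0 := fun h0 => hη (ObjectProperty.hom_ext _ (by
    rw [h0, Functor.map_zero] at hη₀
    exact (cancel_mono eM.hom).1 (hη₀.symm.trans zero_comp.symm)))
  haveI := mono_of_ne_zero hx η₀ hη₀ne
  have hxM : x ∈ CohB1.support M := by
    by_contra hxn
    refine hη₀ne (IsZero.eq_of_tgt (H17.FPExt.isZero_of_stalk _ fun y => ?_) _ _)
    exact not_not.1 fun hy => hxn ((hMsupp hy : y = x) ▸ hy)
  obtain ⟨eh⟩ := homIso (obj M hMcoh) (by
    obtain ⟨e⟩ := hfix M hMcoh x hx hMsupp hxM 0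
    exact ⟨F.mapIso ((shiftFunctorZero P ℤ).app _).symm ≪≫ e ≪≫ (shiftFunctorZero P ℤ).app _⟩)
  let sgl : ∀ A B : X.Modules, (A ⟶ B) ≃ₗ[k] (DCoh.inD X A ⟶ DCoh.inD X B) := fun A B =>
    LinearEquiv.ofBijective ((DerivedCategory.singleFunctor X.Modules 0).mapLinearMap k)
      ⟨fun a b hab => (DerivedCategory.singleFunctor X.Modules 0).map_injective hab,
        (DerivedCategory.singleFunctor X.Modules 0).map_surjective⟩
  let full : ∀ A B : P, (A ⟶ B) ≃ₗ[k] (A.obj ⟶ B.obj) := fun A B =>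
    LinearEquiv.ofBijective ((SGA6.perfP X).ι.mapLinearMap k)
      ⟨fun a b hab => (SGA6.perfP X).ι.map_injective hab, fun g => ⟨ObjectProperty.homMk g, rfl⟩⟩
  haveI hfin : Module.Finite k (M ⟶ Sky.skyM x) := by
    haveI := (PerfRep.finite_ext_full (k := k) (obj M hMcoh) s).1 0
    exact Module.Finite.equiv (((Linear.homCongr k (Iso.refl (obj M hMcoh)) (show (shiftFunctor P (0 : ℤ)).obj s ≅ s from (shiftFunctorZero P ℤ).app s)).trans
      (full (obj M hMcoh) s)).trans (sgl M (Sky.skyM x)).symm)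
  let eEnd : (M ⟶ Sky.skyM x) ≃ₗ[k] (M ⟶ M) :=
    ((sgl M (Sky.skyM x)).trans (eh.symm.trans
      ((full (obj M hMcoh) E').trans (Linear.homCongr k (Iso.refl _) eM)))).trans (sgl M M).symm
  haveI : Module.Finite k (M ⟶ M) := Module.Finite.equiv eEnd
  let Φ : (M ⟶ Sky.skyM x) →ₗ[k] (M ⟶ M) := Linear.rightComp k M η₀
  have hΦ : Function.Injective Φ := fun f g hfg => (cancel_mono η₀).1 hfg
  obtain ⟨f, hf⟩ := (LinearMap.injective_iff_surjective_of_finrank_eq_finrank eEnd.finrank_eq).1 hΦ (𝟙 M)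
  haveI : IsSplitEpi η₀ := ⟨⟨⟨f, hf⟩⟩⟩
  haveI : IsIso η₀ := isIso_of_mono_of_isSplitEpi η₀
  haveI : IsIso ((SGA6.perfP X).ι.map η) := by
    have : η.hom = (DerivedCategory.singleFunctor X.Modules 0).map η₀ ≫ eM.inv := by
      rw [hη₀, Category.assoc, eM.hom_inv_id]
      exact (Category.comp_id _).symm
    show IsIso η.hom
    rw [this]
    infer_instance
  exact isIso_of_reflects_iso η (SGA6.perfP X).ι

end Groth.Agent.H02CA.SkyExt
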