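import Groth.Agent.H4LC.RegularPDBound
import Mathlib.Algebra.Homology.DerivedCategory.Ext.Basic
import Mathlib.RingTheory.LocalProperties.ProjectiveDimension

/-!
# `Ext^i(R/m, -) = 0` above the dimension at a regular maximal ideal
-/

set_option autoImplicit false
set_option linter.style.haveILetI false

universe u

open CategoryTheory CategoryTheory.Abelian

attribute [local instance] HasDerivedCategory.standard

namespace Groth.Agent.H02CA.SkyExt

variable (R : Type u) [CommRing R] [IsNoetherianRing R] (m : Ideal R) [m.IsMaximal]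

theorem hasProjectiveDimensionLE_quotient [IsRegularLocalRing (Localization.AtPrime m)] (d : ℕ)
    (hd : ringKrullDim (Localization.AtPrime m) = d) :
    HasProjectiveDimensionLE (ModuleCat.of R (R ⧸ m)) d := by
  refine (ModuleCat.hasProjectiveDimensionLE_iff_forall_maximalSpectrum d (ModuleCat.of R (R ⧸ m))).2 fun n => ?_
  by_cases hn : n.asIdeal = m
  · obtain ⟨n, hnmax⟩ := n
    simp only at hn ⊢
    subst hn
    obtain ⟨e, he, hk⟩ := H05EGA4.exists_pd_residueField (Localization.AtPrime n)
    have hde : e = d := by exact_mod_cast he.symm.trans hd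
    subst hde
    exact H05EGA4.hasProjectiveDimensionLT_of_residueField e hk _
  · haveI := n.isMaximal
    have hle : ¬ m ≤ n.asIdeal := fun h => hn ((Ideal.IsMaximal.eq_of_le ‹m.IsMaximal› n.isMaximal.ne_top h).symm)
    obtain ⟨a, ham, han⟩ := SetLike.not_le_iff_exists.1 hle
    let f := (ModuleCat.of R (R ⧸ m)).localizedModuleMkLinearMap n.asIdeal.primeCompl
    haveI : IsLocalizedModule n.asIdeal.primeCompl f := ModuleCat.localizedModule_isLocalizedModule _ _
    have hs : Subsingleton ((ModuleCat.of R (R ⧸ m)).localizedModule n.asIdeal.primeCompl) := by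
      refine subsingleton_of_forall_eq 0 fun z => ?_
      obtain ⟨⟨b, t⟩, hz⟩ := IsLocalizedModule.surj n.asIdeal.primeCompl f z
      have h0 : f b = 0 := (IsLocalizedModule.eq_zero_iff n.asIdeal.primeCompl f).2 ⟨⟨a, han⟩, by
        obtain ⟨c, rfl⟩ := Ideal.Quotient.mk_surjective b
        exact Ideal.Quotient.eq_zero_iff_mem.2 (m.mul_mem_right c ham)⟩
      rw [h0] at hz
      exact (IsLocalizedModule.smul_injective f t) (hz.trans (smul_zero _).symm)
    haveI : HasProjectiveDimensionLT ((ModuleCat.of R (R ⧸ m)).localizedModule n.asIdeal.primeCompl) 0 :=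
      (ModuleCat.isZero_of_subsingleton _).hasProjectiveDimensionLT_zero
    exact hasProjectiveDimensionLT_of_ge _ 0 _ (by omega)

/-- Vanishing above the dimension. -/
theorem hom_quotient_eq_zero [IsRegularLocalRing (Localization.AtPrime m)] (d : ℕ)
    (hd : ringKrullDim (Localization.AtPrime m) = d) (N : ModuleCat.{u} R) (i : ℤ) (hi : (d : ℤ) < i)
    (φ : (DerivedCategory.singleFunctor (ModuleCat.{u} R) 0).obj (ModuleCat.of R (R ⧸ m)) ⟶
      ((DerivedCategory.singleFunctor (ModuleCat.{u} R) 0).obj N)⟦i⟧) : φ = 0 := by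
  obtain ⟨n, rfl⟩ := Int.eq_ofNat_of_zero_le (show 0 ≤ i by omega)
  haveI := hasProjectiveDimensionLE_quotient R m d hd
  have h : Ext.homEquiv.symm φ = 0 :=
    Ext.eq_zero_of_hasProjectiveDimensionLT (X := ModuleCat.of R (R ⧸ m)) _ (d + 1) (by omega)
  exact Ext.homEquiv.symm.injective (h.trans (Ext.ext ((Ext.zero_hom (X := ModuleCat.of R (R ⧸ m)) (Y := N) n).trans
    (Equiv.apply_symm_apply Ext.homEquiv 0).symm)))

end Groth.Agent.H02CA.SkyExt
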