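import Groth.Agent.H02CA.SkyZero.Scheme
import Groth.Agent.H02CA.SkyExt.Ring
import Groth.Agent.H16Derived.KFlat.FinLocFree

/-!
# `Ext^i(κ(x), κ(x)) = 0` above the dimension at a regular closed point
-/

set_option autoImplicit false
set_option linter.style.haveILetI false

universe u

open CategoryTheory CategoryTheory.Limits CategoryTheory.Pretriangulated AlgebraicGeometry

attribute [local instance] HasDerivedCategory.standard

namespace Groth.Agent.H02CA.SkyExt

open Groth.Agent.H02CA.Sky Groth.Agent.H02CA.SkyZero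

variable {X : Scheme.{u}}

theorem hom_sky_sky_eq_zero [IsLocallyNoetherian X] (x : X) (hx : IsClosed ({x} : Set X))
    [IsRegularLocalRing (X.presheaf.stalk x)] (d : ℕ) (hd : ringKrullDim (X.presheaf.stalk x) = d)
    (i : ℤ) (hi : (d : ℤ) < i)
    (φ : DCoh.inD X (skyM x) ⟶ (shiftFunctor (DCoh.D X) i).obj (DCoh.inD X (skyM x))) : φ = 0 := by
  obtain ⟨V, hV, hxV, -⟩ := exists_isAffineOpen_mem_and_subset (x := x) (U := (⊤ : X.Opens)) trivial
  haveI : IsNoetherianRing Γ(X, V) := IsLocallyNoetherian.component_noetherian ⟨V, hV⟩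
  let R : Type u := Γ(X, V)
  haveI : PreservesFiniteLimits (tilde.functor (CommRingCat.of R)) :=
    inferInstance
  let j : Spec (CommRingCat.of R) ⟶ X := hV.fromSpec
  haveI : IsOpenImmersion j := inferInstanceAs (IsOpenImmersion hV.fromSpec)
  -- the point
  let α : CommRingCat.of R ⟶ X.residueField x := X.presheaf.germ V x hxV ≫ X.residue x
  let f : Spec (X.residueField x) ⟶ Spec (CommRingCat.of R) := Spec.map α
  have hf : f ≫ j = X.fromSpecResidueField x := by
    show Spec.map (X.presheaf.germ V x hxV ≫ X.residue x) ≫ hV.fromSpec = _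
    rw [Spec.map_comp, Category.assoc, Scheme.fromSpecResidueField]
    exact congrArg (Spec.map (X.residue x) ≫ ·) (hV.fromSpecStalk_eq_fromSpecStalk hxV)
  let q : Spec (X.residueField x) := (inferInstance : Nonempty (Spec (X.residueField x))).some
  let p : PrimeSpectrum R := f q
  have hjp : j p = x := by
    show (f ≫ j) q = x
    rw [hf, Scheme.fromSpecResidueField_apply]
  have hpm : p.asIdeal.IsMaximal := by
    refine (PrimeSpectrum.isClosed_singleton_iff_isMaximal p).1 ?_
    have he : ({p} : Set (Spec (CommRingCat.of R))) = j ⁻¹' {x} := by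
      ext y
      exact ⟨fun hy => hy ▸ hjp, fun hy => j.isOpenEmbedding.injective (Eq.trans hy hjp.symm)⟩
    have hc : IsClosed ({p} : Set (Spec (CommRingCat.of R))) := he ▸ hx.preimage j.continuous
    exact hc
  haveI := hpm
  let g : R →+* X.residueField x := α.hom
  have hker : RingHom.ker g = p.asIdeal := by
    refine ((Ideal.IsMaximal.eq_of_le hpm (RingHom.ker_ne_top g) ?_)).symm
    intro r hr
    have h2 : q.asIdeal = ⊥ := by
      rcases Ideal.eq_bot_or_top q.asIdeal with h | h
      · exact h
      · exact absurd h q.isPrime.ne_top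
    have h1 : g r ∈ q.asIdeal := hr
    rwa [h2, Ideal.mem_bot] at h1
  have hsurj : Function.Surjective g := by
    intro z
    obtain ⟨t, rfl⟩ := X.residue_surjective x z
    haveI := hV.isLocalization_stalk ⟨x, hxV⟩
    letI : Algebra R (X.presheaf.stalk x) := (X.presheaf.germ V x hxV).hom.toAlgebra
    obtain ⟨⟨a, s⟩, has⟩ := IsLocalization.surj (hV.primeIdealOf ⟨x, hxV⟩).asIdeal.primeCompl t
    have hgs : g s.1 ≠ 0 := by
      have hu := (IsLocalization.map_units (X.presheaf.stalk x) s).map (X.residue x).hom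
      exact hu.ne_zero
    obtain ⟨u, v, hv, huv⟩ := hpm.exists_inv (x := s.1) (fun hs => hgs (by
      rwa [← hker, RingHom.mem_ker] at hs))
    refine ⟨a * u, ?_⟩
    have hv0 : g v = 0 := by rwa [← hker, RingHom.mem_ker] at hv
    have hu : g u * g s.1 = 1 := by
      have := congrArg g huv
      rw [map_add, map_mul, map_one, hv0, add_zero] at this
      exact this
    have ha : (X.residue x).hom t * g s.1 = g a := by
      have := congrArg (X.residue x).hom has
      rw [map_mul] at this
      exact this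
    rw [map_mul, ← ha, mul_assoc, mul_comm (g s.1), hu, mul_one]
  -- the restriction of the skyscraper
  let kN : ModuleCat.{u} (X.residueField x) := ModuleCat.of (X.residueField x) (X.residueField x)
  let N : ModuleCat.{u} R := (ModuleCat.restrictScalars g).obj kN
  let eN : N ≅ ModuleCat.of R (R ⧸ p.asIdeal) := by
    letI : Module R (X.residueField x) := Module.compHom _ g
    let l : R →ₗ[R] N :=
      { toFun := fun r => g r, map_add' := g.map_add, map_smul' := fun r y => g.map_mul r y }
    refine LinearEquiv.toModuleIso (X₁ := N) (X₂ := R ⧸ p.asIdeal) ?_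
    exact ((Submodule.quotEquivOfEq _ _ (show p.asIdeal = LinearMap.ker l by
      ext r; rw [← hker]; rfl)).trans (LinearMap.quotKerEquivOfSurjective l hsurj)).symm
  haveI := H10Inj.isIso_extZero_unit' j
  let eS : (skyM x).restrict j ≅ tilde (R := CommRingCat.of R) N :=
    (Scheme.Modules.restrictFunctor j).mapIso
      ((Scheme.Modules.pushforwardCongr hf.symm).app _ ≪≫ (Scheme.Modules.pushforwardComp f j).symm.app _ ) ≪≫
      (asIso (Scheme.Modules.restrictAdjunction j).counit).app _ ≪≫
      (Scheme.Modules.pushforward f).mapIso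
        (show Coh.structureModule (Spec (X.residueField x)) ≅ tilde kN from (tildeSelf).symm) ≪≫
      (H8Props.RelPC.tildePushIso α).app kN
  have hsupp : ∀ y ∈ CohB1.support (skyM x), y ∈ Set.range j := fun y hy => by
    by_cases hyx : y = x
    · exact ⟨p, hjp.trans hyx.symm⟩
    · exact absurd hy (support_skyM hx hyx)
  have hp : p = hV.primeIdealOf ⟨x, hxV⟩ :=
    hV.fromSpec.isOpenEmbedding.injective (hjp.trans (hV.fromSpec_primeIdealOf ⟨x, hxV⟩).symm)
  letI : Algebra R (X.presheaf.stalk x) := (X.presheaf.germ V x hxV).hom.toAlgebra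
  haveI : IsLocalization.AtPrime (X.presheaf.stalk x) p.asIdeal := by
    rw [hp]; exact hV.isLocalization_stalk ⟨x, hxV⟩
  let eA : X.presheaf.stalk x ≃+* Localization.AtPrime p.asIdeal :=
    (IsLocalization.algEquiv p.asIdeal.primeCompl (X.presheaf.stalk x) (Localization.AtPrime p.asIdeal)).toRingEquiv
  haveI : IsRegularLocalRing (Localization.AtPrime p.asIdeal) := IsRegularLocalRing.of_ringEquiv eA
  let T := DCoh.tildeD (CommRingCat.of R)
  haveI : T.Full := (H16Derived.QCohD.full_faithful (CommRingCat.of R)).1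
  let e₁ : T.obj (Dual.inD R (R ⧸ p.asIdeal)) ≅ DCoh.inD _ ((skyM x).restrict j) :=
    ((tilde.functor (CommRingCat.of R)).mapDerivedCategorySingleFunctor 0).app _ ≪≫
      (DerivedCategory.singleFunctor _ 0).mapIso ((tilde.functor (CommRingCat.of R)).mapIso eN.symm ≪≫ eS.symm)
  let eM : T.obj (Dual.inD R (R ⧸ p.asIdeal)) ≅ (DCoh.restrictD j).obj (DCoh.inD X (skyM x)) :=
    e₁ ≪≫ (((Scheme.Modules.restrictFunctor j).mapDerivedCategorySingleFunctor 0).app _).symm
  let e₂ : T.obj ((Dual.inD R (R ⧸ p.asIdeal))⟦i⟧) ≅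
      (DCoh.restrictD j).obj ((shiftFunctor (DCoh.D X) i).obj (DCoh.inD X (skyM x))) :=
    (T.commShiftIso i).app _ ≪≫ (shiftFunctor _ i).mapIso eM ≪≫ ((DCoh.restrictD j).commShiftIso i).symm.app _
  -- every map out of the skyscraper comes from the chart
  haveI := SkyZero.preservesFiniteLimits_extZero j
  haveI := isIso_counit_of_support j hsupp
  let adj : CxOX.extZeroD j ⊣ DCoh.restrictD j :=
    H16Derived.ExactAdj.mapDerivedCategoryAdj (CxOX.extZeroAdj j)
  let e : (CxOX.extZeroD j).obj (DCoh.inD _ ((skyM x).restrict j)) ≅ DCoh.inD X (skyM x) :=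
    ((CxOX.extZero j).mapDerivedCategorySingleFunctor 0).app ((skyM x).restrict j) ≪≫
      (DerivedCategory.singleFunctor X.Modules 0).mapIso (asIso ((CxOX.extZeroAdj j).counit.app (skyM x)))
  obtain ⟨ψ, hψ⟩ := T.map_surjective (e₁.hom ≫ adj.homEquiv _ _ (e.hom ≫ φ) ≫ e₂.inv)
  have h0 : ψ = 0 := hom_quotient_eq_zero R p.asIdeal d ((ringKrullDim_eq_of_ringEquiv eA).symm.trans hd) _ i hi ψ
  rw [h0, Functor.map_zero] at hψ
  have h1 : adj.homEquiv _ _ (e.hom ≫ φ) = 0 := by
    rw [← cancel_epi e₁.hom, ← cancel_mono e₂.inv, comp_zero, zero_comp, Category.assoc]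
    exact hψ.symm
  rw [← cancel_epi e.hom, comp_zero]
  apply (adj.homEquiv _ _).injective
  rw [h1, Adjunction.homEquiv_unit, Functor.map_zero, comp_zero]

end Groth.Agent.H02CA.SkyExt
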